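import Groth.Agent.PhiStab.K955.Stab

/-!
# Spanning trees and stable data supported on their complements
-/

set_option autoImplicit false

universe u w

namespace K955.Span

open LabGraph PhiStab K955.Tree K955.Stab

variable {V E : Type u} [Fintype V] [Fintype E] [DecidableEq V] [DecidableEq E]

omit [Fintype V] in
lemma mem_crossing_span {ends : E → V × V} {T : Finset E} {S : Finset V} (e : {e : E // e ∈ T}) :
    e ∈ crossing (spanEnds ends T) S ↔ e.1 ∈ crossing ends S := by
  rw [mem_crossing, mem_crossing]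
  rfl

/-- Cut criterion for spanning subgraphs. -/
lemma connected_span_iff (ends : E → V × V) (T : Finset E) :
    Connected (spanEnds ends T) ↔ Nonempty V ∧
      ∀ X : Finset V, X.Nonempty → X ≠ Finset.univ → ∃ e ∈ T, e ∈ crossing ends X := by
  rw [connected_iff]
  refine and_congr_right fun _ => forall_congr' fun X => imp_congr_right fun _ =>
    imp_congr_right fun _ => ?_
  constructor
  · rintro ⟨⟨e, he⟩, h⟩
    exact ⟨e, he, (mem_crossing_span _).mp h⟩
  · rintro ⟨e, he, h⟩
    exact ⟨⟨e, he⟩, (mem_crossing_span _).mpr h⟩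

/-- A connected spanning subgraph contains a spanning tree. -/
theorem exists_spanningTree (ends : E → V × V) (T₀ : Finset E)
    (h : Connected (spanEnds ends T₀)) : ∃ T ⊆ T₀, DualGr.IsTree (spanEnds ends T) := by
  induction T₀ using Finset.strongInduction with
  | H T ih =>
    by_cases hmin : ∃ f ∈ T, Connected (spanEnds ends (T.erase f))
    · obtain ⟨f, hf, hc⟩ := hmin
      obtain ⟨T', hT', hT''⟩ := ih (T.erase f) (Finset.erase_ssubset hf) hc
      exact ⟨T', hT'.trans (Finset.erase_subset _ _), hT''⟩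
    · push Not at hmin
      refine ⟨T, Finset.Subset.refl _, h, ?_⟩
      intro C hC
      obtain ⟨⟨⟨f, hf⟩, hfC⟩, heven, _⟩ := hC
      apply hmin f hf
      rw [connected_span_iff] at h ⊢
      refine ⟨h.1, fun X hX hXu => ?_⟩
      obtain ⟨e, he, hc⟩ := h.2 X hX hXu
      by_cases hef : e = f
      · -- parity argument
        subst hef
        by_contra hcon
        push Not at hcon
        have h1 := sum_endCount (spanEnds ends T) C X
        have h2 : Even (∑ v ∈ X, endCount (spanEnds ends T) C v) :=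
          Finset.even_sum _ fun v _ => heven v
        have h3 : C ∩ crossing (spanEnds ends T) X = {⟨e, he⟩} := by
          ext ⟨g, hg⟩
          rw [Finset.mem_inter, mem_crossing_span, Finset.mem_singleton]
          constructor
          · rintro ⟨_, hgX⟩
            by_contra hne
            exact hcon g (Finset.mem_erase.mpr ⟨fun h => hne (Subtype.ext h), hg⟩) hgX
          · intro hge
            have hge' : g = e := congrArg Subtype.val hge
            subst hge'
            exact ⟨hfC, hc⟩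
        rw [h1, h3, Finset.card_singleton] at h2
        rw [Nat.even_add_one] at h2
        exact h2 (even_two_mul _)
      · exact ⟨e, Finset.mem_erase.mpr ⟨hef, he⟩, hc⟩

section Tree

variable {ends : E → V × V} {T : Finset E}

lemma inter_crossing_side (hT : DualGr.IsTree (spanEnds ends T)) (e : {e : E // e ∈ T}) :
    T ∩ crossing ends (side (spanEnds ends T) e) = {e.1} := by
  ext f
  rw [Finset.mem_inter, Finset.mem_singleton]
  constructor
  · rintro ⟨hf, hc⟩
    by_contra hne
    have hne' : (⟨f, hf⟩ : {e : E // e ∈ T}) ≠ e := fun h => hne (congrArg Subtype.val h)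
    have := mem_side_congr (ends := spanEnds ends T) hne'
    rw [mem_crossing] at hc
    change (ends f).1 ∈ _ ↔ (ends f).2 ∈ _ at this
    tauto
  · rintro rfl
    refine ⟨e.2, mem_crossing.mpr (Or.inl ⟨?_, ?_⟩)⟩
    · exact fst_mem_side (spanEnds ends T) e
    · exact snd_notMem_side hT.2 e

lemma side_nonempty (e : {e : E // e ∈ T}) : (side (spanEnds ends T) e).Nonempty :=
  ⟨_, fst_mem_side (spanEnds ends T) e⟩

lemma side_ne_univ (hT : DualGr.IsTree (spanEnds ends T)) (e : {e : E // e ∈ T}) :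
    side (spanEnds ends T) e ≠ Finset.univ := by
  intro h
  have := snd_notMem_side hT.2 e
  rw [h] at this
  exact this (Finset.mem_univ _)

variable (φ : V → ℝ) (m : V → ℤ)

lemma exc_side (hT : DualGr.IsTree (spanEnds ends T)) (e : {e : E // e ∈ T}) :
    exc ends φ m Tᶜ (side (spanEnds ends T) e) =
      ∑ v ∈ side (spanEnds ends T) e, psi ends φ m Tᶜ v + 1 / 2 := by
  rw [exc_eq, compl_compl, inter_crossing_side hT, Finset.card_singleton, Nat.cast_one]

lemma exc_side_compl (hT : DualGr.IsTree (spanEnds ends T))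
    (hdeg : (∑ v : V, φ v) = (totDeg m Tᶜ : ℝ)) (e : {e : E // e ∈ T}) :
    exc ends φ m Tᶜ (side (spanEnds ends T) e)ᶜ =
      -∑ v ∈ side (spanEnds ends T) e, psi ends φ m Tᶜ v + 1 / 2 := by
  rw [exc_compl _ _ _ _ hdeg, compl_compl, inter_crossing_side hT, Finset.card_singleton, Nat.cast_one]

/-- If all side sums are at most `1/2` in absolute value, the datum is semistable. -/
theorem semistable_of_sides (hT : DualGr.IsTree (spanEnds ends T))
    (hdeg : (∑ v : V, φ v) = (totDeg m Tᶜ : ℝ))
    (h : ∀ e : {e : E // e ∈ T}, |∑ v ∈ side (spanEnds ends T) e, psi ends φ m Tᶜ v| ≤ 1 / 2) :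
    IsSemistable ends φ m Tᶜ := by
  rw [isSemistable_iff]
  intro S _ _
  rw [exc_eq, compl_compl]
  have h1 := flow_sideSum hT (ψ := psi ends φ m Tᶜ) (sum_psi ends φ m Tᶜ hdeg)
  have h2 := sum_flow (spanEnds ends T)
    (fun e => ∑ v ∈ side (spanEnds ends T) e, psi ends φ m Tᶜ v) S
  rw [h1] at h2
  rw [h2]
  have h3 : ((T ∩ crossing ends S).card : ℝ) / 2 =
      ∑ e : {e : E // e ∈ T}, if e.1 ∈ crossing ends S then (1 / 2 : ℝ) else 0 := by
    rw [Finset.card_eq_sum_ones]
    push_cast
    rw [Finset.sum_div, ← Finset.sum_ite_mem, ← Finset.sum_coe_sort]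
  rw [h3, ← Finset.sum_add_distrib]
  refine Finset.sum_nonneg fun e _ => ?_
  have h4 := abs_le.mp (h e)
  have hmc : e.1 ∈ crossing ends S ↔ ((ends e.1).1 ∈ S ∧ (ends e.1).2 ∉ S) ∨
      ((ends e.1).1 ∉ S ∧ (ends e.1).2 ∈ S) := mem_crossing
  change 0 ≤ ((if (ends e.1).1 ∈ S then _ else 0) - (if (ends e.1).2 ∈ S then _ else 0)) + _
  by_cases ha : (ends e.1).1 ∈ S <;> by_cases hb : (ends e.1).2 ∈ S
  · rw [if_pos ha, if_pos hb, if_neg (by tauto)]; simp
  · rw [if_pos ha, if_neg hb, if_pos (by tauto)]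
    linarith [h4.1]
  · rw [if_neg ha, if_pos hb, if_pos (by tauto)]
    linarith [h4.2]
  · rw [if_neg ha, if_neg hb, if_neg (by tauto)]; simp

end Tree

/-- Existence and uniqueness of the stable datum not locally free exactly off a spanning tree. -/
theorem existsUnique_stable (ends : E → V × V) (T : Finset E)
    (hT : DualGr.IsTree (spanEnds ends T)) (b : ℤ) (φ : V → ℝ) (hφ : (∑ v : V, φ v) = (b : ℝ))
    (hnd : Nondegenerate ends φ) :
    ∃! m : V → ℤ, totDeg m Tᶜ = b ∧ IsStable ends φ m Tᶜ := by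
  -- the real part of the side sums
  let x : {e : E // e ∈ T} → ℝ := fun e =>
    ∑ v ∈ side (spanEnds ends T) e, ((endCount ends Tᶜ v : ℝ) / 2 - φ v)
  have hx : ∀ (m : V → ℤ) (e : {e : E // e ∈ T}),
      ∑ v ∈ side (spanEnds ends T) e, psi ends φ m Tᶜ v =
        ((∑ v ∈ side (spanEnds ends T) e, m v : ℤ) : ℝ) + x e := by
    intro m e
    simp only [x, psi]
    rw [Int.cast_sum, ← Finset.sum_add_distrib]
    refine Finset.sum_congr rfl fun v _ => ?_
    ring
  obtain ⟨m, ⟨hm1, hm2⟩, _⟩ := existsUnique_sideSum hT (fun e => ⌈-1 / 2 - x e⌉) (b - (Tᶜ.card : ℤ))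
  have hb : totDeg m Tᶜ = b := by rw [totDeg, hm2]; ring
  have hdeg : (∑ v : V, φ v) = (totDeg m Tᶜ : ℝ) := by rw [hφ, hb]
  refine ⟨m, ⟨hb, hnd m Tᶜ hdeg ?_⟩, ?_⟩
  · refine semistable_of_sides φ m hT hdeg fun e => ?_
    rw [hx, hm1, abs_le]
    have h1 := Int.le_ceil (-1 / 2 - x e)
    have h2 := Int.ceil_lt_add_one (-1 / 2 - x e)
    constructor <;> linarith
  · rintro m' ⟨hb', hst'⟩
    have hst : IsStable ends φ m Tᶜ := hnd m Tᶜ hdeg (by
      refine semistable_of_sides φ m hT hdeg fun e => ?_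
      rw [hx, hm1, abs_le]
      have h1 := Int.le_ceil (-1 / 2 - x e)
      have h2 := Int.ceil_lt_add_one (-1 / 2 - x e)
      constructor <;> linarith)
    have hdeg' : (∑ v : V, φ v) = (totDeg m' Tᶜ : ℝ) := by rw [hφ, hb']
    rw [isStable_iff] at hst hst'
    have key : ∀ e, ∑ v ∈ side (spanEnds ends T) e, (m' - m) v = 0 := by
      intro e
      have hne := side_nonempty (ends := ends) e
      have hnu := side_ne_univ hT e
      have hne' : ((side (spanEnds ends T) e)ᶜ).Nonempty := by
        rw [Finset.nonempty_iff_ne_empty]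
        intro h
        exact hnu (by rwa [Finset.compl_eq_empty_iff] at h)
      have hnu' : (side (spanEnds ends T) e)ᶜ ≠ Finset.univ := by
        intro h
        rw [Finset.compl_eq_univ_iff] at h
        exact hne.ne_empty h
      have a1 := hst _ hne hnu
      have a2 := hst _ hne' hnu'
      have a3 := hst' _ hne hnu
      have a4 := hst' _ hne' hnu'
      rw [exc_side _ _ hT, hx] at a1 a3
      rw [exc_side_compl _ _ hT hdeg, hx] at a2
      rw [exc_side_compl _ _ hT hdeg', hx] at a4
      simp only [Pi.sub_apply]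
      rw [Finset.sum_sub_distrib]
      have b1 : (((∑ v ∈ side (spanEnds ends T) e, m' v) - (∑ v ∈ side (spanEnds ends T) e, m v) : ℤ) : ℝ) < 1 := by
        push_cast at a1 a2 a3 a4 ⊢; linarith
      have b2 : (-1 : ℝ) < (((∑ v ∈ side (spanEnds ends T) e, m' v) - (∑ v ∈ side (spanEnds ends T) e, m v) : ℤ) : ℝ) := by
        push_cast at a1 a2 a3 a4 ⊢; linarith
      have c1 : (∑ v ∈ side (spanEnds ends T) e, m' v) - (∑ v ∈ side (spanEnds ends T) e, m v) < 1 := by
        exact_mod_cast b1
      have c2 : -1 < (∑ v ∈ side (spanEnds ends T) e, m' v) - (∑ v ∈ side (spanEnds ends T) e, m v) := by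
        exact_mod_cast b2
      omega
    have key0 : ∑ v, (m' - m) v = 0 := by
      simp only [Pi.sub_apply]
      rw [Finset.sum_sub_distrib]
      have h1 : (∑ v, m' v) + (Tᶜ.card : ℤ) = b := hb'
      have h2 : (∑ v, m v) + (Tᶜ.card : ℤ) = b := hb
      linarith
    exact sub_eq_zero.mp (eq_zero_of_sideSum hT key key0)

/-- A spanning tree adapted to an elementary set. -/
theorem exists_adapted_tree (ends : E → V × V) (hconn : Connected ends) {S : Finset V}
    (hS : IsElementary ends S) :
    ∃ T : Finset E, DualGr.IsTree (spanEnds ends T) ∧ ∃ e, T ∩ crossing ends S = {e} := by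
  have hS1 := (connected_indEnds_iff ends S).mp hS.1
  have hS2 := (connected_indEnds_iff ends _).mp hS.2
  have hne := IsElementary.nonempty hS
  have hnu := IsElementary.ne_univ hS
  obtain ⟨e₀, he₀⟩ := ((connected_iff ends).mp hconn).2 S hne hnu
  let T₀ : Finset E := inner ends S ∪ inner ends Sᶜ ∪ {e₀}
  have hT₀ : T₀ ∩ crossing ends S ⊆ {e₀} := by
    intro f hf
    rw [Finset.mem_inter, mem_crossing] at hf
    obtain ⟨h1, h2⟩ := hf
    simp only [T₀, Finset.mem_union, Finset.mem_singleton] at h1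
    rw [mem_inner, mem_inner, Finset.mem_compl, Finset.mem_compl] at h1
    rw [Finset.mem_singleton]
    tauto
  have hc₀ : Connected (spanEnds ends T₀) := by
    rw [connected_span_iff]
    refine ⟨⟨hne.choose⟩, fun X hX hXu => ?_⟩
    by_cases h1 : (X ∩ S).Nonempty ∧ X ∩ S ≠ S
    · obtain ⟨e, he, hc⟩ := hS1.2 (X ∩ S) Finset.inter_subset_right h1.1 h1.2
      refine ⟨e, by simp [T₀, he], ?_⟩
      rw [mem_inner] at he
      rw [mem_crossing, Finset.mem_inter, Finset.mem_inter] at hc
      rw [mem_crossing]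
      tauto
    by_cases h2 : (X ∩ Sᶜ).Nonempty ∧ X ∩ Sᶜ ≠ Sᶜ
    · obtain ⟨e, he, hc⟩ := hS2.2 (X ∩ Sᶜ) Finset.inter_subset_right h2.1 h2.2
      refine ⟨e, by simp [T₀, he], ?_⟩
      rw [mem_inner] at he
      rw [mem_crossing, Finset.mem_inter, Finset.mem_inter] at hc
      rw [mem_crossing]
      tauto
    -- now `X = S` or `X = Sᶜ`
    refine ⟨e₀, by simp [T₀], ?_⟩
    have hX' : X = S ∨ X = Sᶜ := by
      have hd : X = (X ∩ S) ∪ (X ∩ Sᶜ) := by
        rw [← Finset.inter_union_distrib_left, Finset.union_compl, Finset.inter_univ]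
      by_cases a1 : (X ∩ S).Nonempty
      · have a2 : X ∩ S = S := by
          by_contra hcon; exact h1 ⟨a1, hcon⟩
        by_cases a3 : (X ∩ Sᶜ).Nonempty
        · have a4 : X ∩ Sᶜ = Sᶜ := by
            by_contra hcon; exact h2 ⟨a3, hcon⟩
          exfalso
          apply hXu
          rw [hd, a2, a4, Finset.union_compl]
        · left
          rw [Finset.not_nonempty_iff_eq_empty] at a3
          rw [hd, a2, a3, Finset.union_empty]
      · rw [Finset.not_nonempty_iff_eq_empty] at a1
        have a3 : (X ∩ Sᶜ).Nonempty := by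
          rw [hd, a1, Finset.empty_union] at hX
          exact hX
        have a4 : X ∩ Sᶜ = Sᶜ := by
          by_contra hcon; exact h2 ⟨a3, hcon⟩
        right
        rw [hd, a1, a4, Finset.empty_union]
    rcases hX' with rfl | rfl
    · exact he₀
    · rw [crossing_compl]; exact he₀
  obtain ⟨T, hTT, hT⟩ := exists_spanningTree ends T₀ hc₀
  refine ⟨T, hT, e₀, ?_⟩
  apply Finset.Subset.antisymm
  · exact (Finset.inter_subset_inter_right hTT).trans hT₀
  · obtain ⟨f, hf, hfc⟩ := ((connected_span_iff ends T).mp hT.1).2 S hne hnu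
    have : f ∈ T₀ ∩ crossing ends S := Finset.mem_inter.mpr ⟨hTT hf, hfc⟩
    have hfe := Finset.mem_singleton.mp (hT₀ this)
    subst hfe
    rw [Finset.singleton_subset_iff]
    exact Finset.mem_inter.mpr ⟨hf, hfc⟩

theorem polytope (ends : E → V × V)
    (hconn : LabGraph.Connected ends) (b : ℤ) (φ₁ φ₂ : V → ℝ) (h₁ : (∑ v : V, φ₁ v) = (b : ℝ))
    (h₂ : (∑ v : V, φ₂ v) = (b : ℝ)) (hnd : Nondegenerate ends φ₁) :
    (∀ (m : V → ℤ) (N : Finset E), totDeg m N = b → IsStable ends φ₁ m N → IsSemistable ends φ₂ m N) ↔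
      InClosedPolytope ends φ₁ φ₂ := by
  have hell : ∀ (φ : V → ℝ) (m : V → ℤ) (N : Finset E) (S : Finset V),
      ell ends S (degOn ends m N S) φ = exc ends φ m N S := fun φ m N S => rfl
  constructor
  · intro h S hS d hd
    obtain ⟨T, hT, e, hTe⟩ := exists_adapted_tree ends hconn hS
    obtain ⟨m, ⟨hb, hst⟩, _⟩ := existsUnique_stable ends T hT b φ₁ h₁ hnd
    have hss := h m Tᶜ hb hst
    have hne := IsElementary.nonempty hS
    have hnu := IsElementary.ne_univ hS
    have hne' : (Sᶜ).Nonempty := by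
      rw [Finset.nonempty_iff_ne_empty]
      intro h
      exact hnu (by rwa [Finset.compl_eq_empty_iff] at h)
    have hnu' : Sᶜ ≠ Finset.univ := by
      intro h
      rw [Finset.compl_eq_univ_iff] at h
      exact hne.ne_empty h
    rw [isStable_iff] at hst
    rw [isSemistable_iff] at hss
    have a1 := hst S hne hnu
    have a2 := hst Sᶜ hne' hnu'
    have hdeg : (∑ v : V, φ₁ v) = (totDeg m Tᶜ : ℝ) := by rw [h₁, hb]
    rw [exc_compl _ _ _ _ hdeg, compl_compl, hTe, Finset.card_singleton, Nat.cast_one] at a2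
    have a3 := exc_eq ends φ₁ m Tᶜ S
    rw [compl_compl, hTe, Finset.card_singleton, Nat.cast_one] at a3
    have a4 : exc ends φ₁ m Tᶜ S < 1 := by linarith
    have a5 := hss S hne hnu
    rw [← hell] at a4 a5
    simp only [ell] at a4 a5 hd ⊢
    have a6 : ((degOn ends m Tᶜ S : ℤ) : ℝ) < (d : ℝ) + 1 := by linarith
    have a7 : degOn ends m Tᶜ S < d + 1 := by exact_mod_cast a6
    have a8 : ((degOn ends m Tᶜ S : ℤ) : ℝ) ≤ (d : ℝ) := by exact_mod_cast Int.lt_add_one_iff.mp a7
    linarith
  · intro h m N hb hst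
    have hdeg₂ : (∑ v : V, φ₂ v) = (totDeg m N : ℝ) := by rw [h₂, hb]
    rw [semistable_iff_elementary ends hconn φ₂ m N hdeg₂]
    intro S hS
    rw [← hell]
    apply h S hS
    rw [hell]
    exact (isStable_iff ends φ₁ m N).mp hst S (IsElementary.nonempty hS) (IsElementary.ne_univ hS)

end K955.Span
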