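import Groth.Agent.PhiStab.K955.Tree

/-!
# Stability of sheaf data: reduction to elementary sets, spanning trees
-/

set_option autoImplicit false

universe u w

namespace K955.Stab

open LabGraph PhiStab K955.Tree

section General

variable {V E : Type u} [Fintype V] [Fintype E] [DecidableEq V] [DecidableEq E]

/-- The edges with exactly one endpoint in `S`. -/
def crossing (ends : E → V × V) (S : Finset V) : Finset E :=
  Finset.univ.filter (fun e : E =>
    ((ends e).1 ∈ S ∧ (ends e).2 ∉ S) ∨ ((ends e).1 ∉ S ∧ (ends e).2 ∈ S))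

omit [Fintype V] [DecidableEq E] in
lemma cut_eq (ends : E → V × V) (S : Finset V) : cut ends S = (crossing ends S).card := rfl

omit [Fintype V] [DecidableEq E] in
lemma mem_crossing {ends : E → V × V} {S : Finset V} {e : E} :
    e ∈ crossing ends S ↔ ((ends e).1 ∈ S ∧ (ends e).2 ∉ S) ∨ ((ends e).1 ∉ S ∧ (ends e).2 ∈ S) := by
  simp [crossing]

omit [Fintype V] [DecidableEq E] in
lemma mem_inner {ends : E → V × V} {S : Finset V} {e : E} :
    e ∈ inner ends S ↔ (ends e).1 ∈ S ∧ (ends e).2 ∈ S := by
  simp [PhiStab.inner]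

omit [DecidableEq E] in
lemma crossing_compl (ends : E → V × V) (S : Finset V) : crossing ends Sᶜ = crossing ends S := by
  ext e
  rw [mem_crossing, mem_crossing]
  simp only [Finset.mem_compl, not_not]
  tauto

omit [Fintype V] in
/-- Counting half-edges. -/
lemma sum_endCount (ends : E → V × V) (N : Finset E) (S : Finset V) :
    ∑ v ∈ S, endCount ends N v = 2 * (N ∩ inner ends S).card + (N ∩ crossing ends S).card := by
  simp only [endCount]
  rw [Finset.sum_comm]
  have h1 : (N ∩ inner ends S).card = ∑ e ∈ N, if e ∈ inner ends S then 1 else 0 := by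
    rw [Finset.card_eq_sum_ones, Finset.sum_ite_mem]
  have h2 : (N ∩ crossing ends S).card = ∑ e ∈ N, if e ∈ crossing ends S then 1 else 0 := by
    rw [Finset.card_eq_sum_ones, Finset.sum_ite_mem]
  rw [h1, h2, Finset.mul_sum, ← Finset.sum_add_distrib]
  refine Finset.sum_congr rfl fun e _ => ?_
  rw [Finset.sum_add_distrib, Finset.sum_ite_eq, Finset.sum_ite_eq]
  simp only [mem_inner, mem_crossing]
  by_cases ha : (ends e).1 ∈ S <;> by_cases hb : (ends e).2 ∈ S <;> simp [ha, hb]

omit [Fintype V] [Fintype E] [DecidableEq V] [DecidableEq E] in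
lemma exists_step {α : Type*} {r : α → α → Prop} {X : Set α} {a b : α}
    (h : Relation.ReflTransGen r a b) (ha : a ∈ X) (hb : b ∉ X) :
    ∃ x y, r x y ∧ x ∈ X ∧ y ∉ X := by
  induction h with
  | refl => exact absurd ha hb
  | tail _ h ih =>
    rename_i c d _
    by_cases hc : c ∈ X
    · exact ⟨c, d, h, hc, hb⟩
    · exact ih hc

omit [DecidableEq E] in
/-- Cut criterion for connectedness. -/
theorem connected_iff (ends : E → V × V) :
    Connected ends ↔ Nonempty V ∧
      ∀ X : Finset V, X.Nonempty → X ≠ Finset.univ → (crossing ends X).Nonempty := by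
  constructor
  · rintro ⟨h0, h⟩
    refine ⟨h0, fun X ⟨a, ha⟩ hX => ?_⟩
    obtain ⟨b, hb⟩ : ∃ b, b ∉ X := by
      by_contra hcon
      push Not at hcon
      exact hX (Finset.eq_univ_iff_forall.mpr hcon)
    obtain ⟨x, y, ⟨e, he⟩, hx, hy⟩ := exists_step (X := (X : Set V)) (h a b) ha hb
    refine ⟨e, ?_⟩
    rw [mem_crossing]
    rcases he with he | he
    · rw [he]; exact Or.inl ⟨hx, hy⟩
    · rw [he]; exact Or.inr ⟨hy, hx⟩
  · rintro ⟨h0, h⟩
    classical
    refine ⟨h0, fun v w => ?_⟩
    by_contra hvw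
    let X : Finset V := Finset.univ.filter fun x => Relation.ReflTransGen (Adj ends) v x
    have hmem : ∀ x, x ∈ X ↔ Relation.ReflTransGen (Adj ends) v x := fun x => by simp [X]
    obtain ⟨e, he⟩ := h X ⟨v, by rw [hmem]⟩ (fun hX => hvw (by
      rw [← hmem, hX]; exact Finset.mem_univ w))
    rw [mem_crossing, hmem, hmem] at he
    rcases he with ⟨h1, h2⟩ | ⟨h1, h2⟩
    · exact h2 (h1.tail (adj_of_edge ends e))
    · exact h1 (h2.tail (adj_symm (adj_of_edge ends e)))

/-- Connectedness of an induced subgraph, in terms of subsets. -/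
def Conn (ends : E → V × V) (S : Finset V) : Prop :=
  S.Nonempty ∧ ∀ A ⊆ S, A.Nonempty → A ≠ S → ∃ e ∈ inner ends S, e ∈ crossing ends A

theorem connected_indEnds_iff (ends : E → V × V) (S : Finset V) :
    Connected (indEnds ends S) ↔ Conn ends S := by
  rw [connected_iff]
  constructor
  · rintro ⟨⟨⟨v, hv⟩⟩, h⟩
    refine ⟨⟨v, hv⟩, fun A hA hAne hAS => ?_⟩
    obtain ⟨a, ha⟩ := hAne
    obtain ⟨⟨e, he⟩, hc⟩ := h (A.subtype (· ∈ S)) ⟨⟨a, hA ha⟩, by simpa using ha⟩ (fun hX => hAS (by
      apply Finset.Subset.antisymm hA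
      intro x hx
      have : (⟨x, hx⟩ : {v // v ∈ S}) ∈ A.subtype (· ∈ S) := by rw [hX]; exact Finset.mem_univ _
      simpa using this))
    refine ⟨e, he, ?_⟩
    rw [mem_crossing] at hc ⊢
    simpa [indEnds] using hc
  · rintro ⟨⟨v, hv⟩, h⟩
    refine ⟨⟨⟨v, hv⟩⟩, fun X hX hXu => ?_⟩
    have hmem : ∀ (x : V) (hx : x ∈ S), x ∈ X.map (Function.Embedding.subtype _) ↔ (⟨x, hx⟩ : {v // v ∈ S}) ∈ X := by
      intro x hx
      simp [hx]
    obtain ⟨e, he, hc⟩ := h (X.map (Function.Embedding.subtype _)) (by
      intro x hx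
      rw [Finset.mem_map] at hx
      obtain ⟨y, _, rfl⟩ := hx
      exact y.2) (by simpa using hX) (fun heq => hXu (by
        rw [Finset.eq_univ_iff_forall]
        rintro ⟨x, hx⟩
        rw [← hmem x hx, heq]
        exact hx))
    refine ⟨⟨e, he⟩, ?_⟩
    rw [mem_crossing] at hc ⊢
    have h1 := hmem _ ((mem_inner.mp he).1)
    have h2 := hmem _ ((mem_inner.mp he).2)
    rw [h1, h2] at hc
    exact hc

/-- Two sets of vertices without edges between them. -/
def Sep (ends : E → V × V) (A B : Finset V) : Prop :=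
  ∀ e, ¬ ((ends e).1 ∈ A ∧ (ends e).2 ∈ B) ∧ ¬ ((ends e).1 ∈ B ∧ (ends e).2 ∈ A)

omit [Fintype V] [DecidableEq E] in
lemma exists_split {ends : E → V × V} {S : Finset V} (hS : S.Nonempty) (h : ¬ Conn ends S) :
    ∃ A B : Finset V, A ∪ B = S ∧ Disjoint A B ∧ A.Nonempty ∧ B.Nonempty ∧ Sep ends A B := by
  have h' : ¬ ∀ A ⊆ S, A.Nonempty → A ≠ S → ∃ e ∈ inner ends S, e ∈ crossing ends A :=
    fun h'' => h ⟨hS, h''⟩
  push Not at h'
  obtain ⟨A, hAS, hA, hne, hno⟩ := h'
  refine ⟨A, S \ A, Finset.union_sdiff_of_subset hAS, Finset.disjoint_sdiff, hA, ?_, ?_⟩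
  · rw [Finset.sdiff_nonempty]
    exact fun h1 => hne (Finset.Subset.antisymm hAS h1)
  · intro e
    constructor
    · rintro ⟨h1, h2⟩
      rw [Finset.mem_sdiff] at h2
      exact hno e (mem_inner.mpr ⟨hAS h1, h2.1⟩) (mem_crossing.mpr (Or.inl ⟨h1, h2.2⟩))
    · rintro ⟨h1, h2⟩
      rw [Finset.mem_sdiff] at h1
      exact hno e (mem_inner.mpr ⟨h1.1, hAS h2⟩) (mem_crossing.mpr (Or.inr ⟨h1.2, h2⟩))

omit [DecidableEq E] in
/-- Adding to a connected set part of the components of its complement. -/
lemma conn_union {ends : E → V × V} (hconn : Connected ends) {S A B : Finset V} (hS : Conn ends S)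
    (hAB : A ∪ B = Sᶜ) (hA : A.Nonempty) (hdisj : Disjoint A B) (hsep : Sep ends A B) :
    Conn ends (S ∪ B) := by
  obtain ⟨hSne, hSc⟩ := hS
  have hBS : Disjoint B S := by
    rw [Finset.disjoint_left]
    intro x hx hxS
    have : x ∈ Sᶜ := by rw [← hAB]; exact Finset.mem_union_right _ hx
    exact (Finset.mem_compl.mp this) hxS
  have hcov : ∀ x, x ∈ S ∨ x ∈ A ∨ x ∈ B := by
    intro x
    by_cases hx : x ∈ S
    · exact Or.inl hx
    · right
      have : x ∈ Sᶜ := Finset.mem_compl.mpr hx
      rw [← hAB] at this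
      exact Finset.mem_union.mp this
  -- edges leaving a nonempty subset `Y` of `B` stay inside `S ∪ B`
  have key : ∀ Y ⊆ B, Y.Nonempty → ∃ e ∈ inner ends (S ∪ B), e ∈ crossing ends Y := by
    intro Y hY hYne
    have hYu : Y ≠ Finset.univ := by
      rintro rfl
      obtain ⟨a, ha⟩ := hA
      exact Finset.disjoint_left.mp hdisj ha (hY (Finset.mem_univ a))
    obtain ⟨e, he⟩ := ((connected_iff ends).mp hconn).2 Y hYne hYu
    refine ⟨e, ?_, he⟩
    rw [mem_crossing] at he
    rw [mem_inner, Finset.mem_union, Finset.mem_union]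
    rcases he with ⟨h1, _⟩ | ⟨_, h2⟩
    · refine ⟨Or.inr (hY h1), ?_⟩
      rcases hcov (ends e).2 with h | h | h
      · exact Or.inl h
      · exact absurd ⟨hY h1, h⟩ (hsep e).2
      · exact Or.inr h
    · refine ⟨?_, Or.inr (hY h2)⟩
      rcases hcov (ends e).1 with h | h | h
      · exact Or.inl h
      · exact absurd ⟨h, hY h2⟩ (hsep e).1
      · exact Or.inr h
  refine ⟨hSne.mono Finset.subset_union_left, fun X hX hXne hXu => ?_⟩
  by_cases h1 : (X ∩ S).Nonempty
  · by_cases h2 : X ∩ S = S
    · -- `S ⊆ X`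
      have hSX : S ⊆ X := by rw [← h2]; exact Finset.inter_subset_left
      let Y := (S ∪ B) \ X
      have hYB : Y ⊆ B := by
        intro y hy
        rw [Finset.mem_sdiff, Finset.mem_union] at hy
        rcases hy.1 with h | h
        · exact absurd (hSX h) hy.2
        · exact h
      have hYne : Y.Nonempty := by
        rw [Finset.sdiff_nonempty]
        exact fun h => hXu (Finset.Subset.antisymm hX h)
      obtain ⟨e, he, hc⟩ := key Y hYB hYne
      refine ⟨e, he, ?_⟩
      rw [mem_inner] at he
      rw [mem_crossing] at hc ⊢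
      simp only [Y, Finset.mem_sdiff] at hc
      tauto
    · obtain ⟨e, he, hc⟩ := hSc (X ∩ S) Finset.inter_subset_right h1 h2
      refine ⟨e, ?_, ?_⟩
      · rw [mem_inner] at he ⊢
        exact ⟨Finset.mem_union_left _ he.1, Finset.mem_union_left _ he.2⟩
      · rw [mem_inner] at he
        rw [mem_crossing, Finset.mem_inter, Finset.mem_inter] at hc
        rw [mem_crossing]
        tauto
  · -- `X ⊆ B`
    have hXB : X ⊆ B := by
      intro x hx
      rcases Finset.mem_union.mp (hX hx) with h | h
      · exact absurd ⟨x, Finset.mem_inter.mpr ⟨hx, h⟩⟩ h1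
      · exact h
    exact key X hXB hXne

/-- Reduction to elementary sets. -/
theorem elem_induction {ends : E → V × V} (hconn : Connected ends) (P : Finset V → Prop)
    (h1 : ∀ A B : Finset V, Disjoint A B → Sep ends A B → P A → P B → P (A ∪ B))
    (h2 : ∀ A B : Finset V, Disjoint A B → Sep ends A B → P Aᶜ → P Bᶜ → P (A ∪ B)ᶜ)
    (helem : ∀ S, IsElementary ends S → P S) (S : Finset V) (hS : S.Nonempty)
    (hSu : S ≠ Finset.univ) : P S := by
  -- connected sets
  have stepA : ∀ (n : ℕ) (S : Finset V), Sᶜ.card = n → Conn ends S → S ≠ Finset.univ → P S := by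
    intro n
    induction n using Nat.strong_induction_on with
    | _ n ih =>
      intro S hn hSc hSu
      have hcne : Sᶜ.Nonempty := by
        rw [Finset.nonempty_iff_ne_empty]
        intro h
        exact hSu (by rwa [Finset.compl_eq_empty_iff] at h)
      by_cases hc : Conn ends Sᶜ
      · exact helem S ⟨(connected_indEnds_iff ends S).mpr hSc, (connected_indEnds_iff ends _).mpr hc⟩
      · obtain ⟨A, B, hAB, hdisj, hA, hB, hsep⟩ := exists_split hcne hc
        have hS' : S = (A ∪ B)ᶜ := by rw [hAB, compl_compl]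
        have hBA : Sep ends B A := fun e => ⟨(hsep e).2, (hsep e).1⟩
        have e1 : Aᶜ = S ∪ B := by
          ext x
          rw [hS']
          simp only [Finset.mem_compl, Finset.mem_union]
          have : x ∈ A → x ∉ B := fun h => Finset.disjoint_left.mp hdisj h
          tauto
        have e2 : Bᶜ = S ∪ A := by
          ext x
          rw [hS']
          simp only [Finset.mem_compl, Finset.mem_union]
          have : x ∈ A → x ∉ B := fun h => Finset.disjoint_left.mp hdisj h
          tauto
        have hcard : A.card + B.card = n := by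
          rw [← hn, ← hAB, Finset.card_union_of_disjoint hdisj]
        have hAc : 0 < A.card := hA.card_pos
        have hBc : 0 < B.card := hB.card_pos
        have c1 : Conn ends Aᶜ := by
          rw [e1]; exact conn_union hconn hSc hAB hA hdisj hsep
        have c2 : Conn ends Bᶜ := by
          rw [e2]
          exact conn_union hconn hSc (by rw [Finset.union_comm]; exact hAB) hB hdisj.symm hBA
        have p1 : P Aᶜ := ih A.card (by omega) Aᶜ (by rw [compl_compl]) c1 (by
          intro h
          rw [Finset.compl_eq_univ_iff] at h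
          exact hA.ne_empty h)
        have p2 : P Bᶜ := ih B.card (by omega) Bᶜ (by rw [compl_compl]) c2 (by
          intro h
          rw [Finset.compl_eq_univ_iff] at h
          exact hB.ne_empty h)
        rw [hS']
        exact h2 A B hdisj hsep p1 p2
  have stepB : ∀ (n : ℕ) (S : Finset V), S.card = n → S.Nonempty → S ≠ Finset.univ → P S := by
    intro n
    induction n using Nat.strong_induction_on with
    | _ n ih =>
      intro S hn hSne hSu
      by_cases hc : Conn ends S
      · exact stepA _ S rfl hc hSu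
      · obtain ⟨A, B, hAB, hdisj, hA, hB, hsep⟩ := exists_split hSne hc
        have hcard : A.card + B.card = n := by
          rw [← hn, ← hAB, Finset.card_union_of_disjoint hdisj]
        have hAc : 0 < A.card := hA.card_pos
        have hBc : 0 < B.card := hB.card_pos
        rw [← hAB]
        refine h1 A B hdisj hsep (ih A.card (by omega) A rfl hA ?_) (ih B.card (by omega) B rfl hB ?_)
        · rintro rfl
          apply hSu
          rw [← hAB]; simp
        · rintro rfl
          apply hSu
          rw [← hAB]; simp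
  exact stepB _ S rfl hS hSu

/-! ### The excess function -/

/-- The excess `degOn S - φ(S) + cut S / 2`. -/
noncomputable def exc (ends : E → V × V) (φ : V → ℝ) (m : V → ℤ) (N : Finset E) (S : Finset V) : ℝ :=
  (degOn ends m N S : ℝ) - (∑ v ∈ S, φ v) + (cut ends S : ℝ) / 2

/-- The vertex weights of the excess. -/
noncomputable def psi (ends : E → V × V) (φ : V → ℝ) (m : V → ℤ) (N : Finset E) (v : V) : ℝ :=
  (m v : ℝ) + (endCount ends N v : ℝ) / 2 - φ v

lemma exc_eq (ends : E → V × V) (φ : V → ℝ) (m : V → ℤ) (N : Finset E) (S : Finset V) :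
    exc ends φ m N S = ∑ v ∈ S, psi ends φ m N v + ((Nᶜ ∩ crossing ends S).card : ℝ) / 2 := by
  have h1 : (cut ends S : ℝ) = ((N ∩ crossing ends S).card : ℝ) + ((Nᶜ ∩ crossing ends S).card : ℝ) := by
    rw [cut_eq, ← Nat.cast_add, ← Finset.card_union_of_disjoint]
    · rw [← Finset.union_inter_distrib_right, Finset.union_compl, Finset.univ_inter]
    · rw [Finset.disjoint_left]
      intro e h1 h2
      rw [Finset.mem_inter] at h1 h2
      exact (Finset.mem_compl.mp h2.1) h1.1
  have h2 := congrArg (fun n : ℕ => (n : ℝ)) (sum_endCount ends N S)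
  simp only [Nat.cast_sum, Nat.cast_add, Nat.cast_mul, Nat.cast_ofNat] at h2
  simp only [exc, psi, degOn]
  rw [Finset.sum_sub_distrib, Finset.sum_add_distrib, ← Finset.sum_div, h2, h1]
  push_cast
  ring

lemma exc_union (ends : E → V × V) (φ : V → ℝ) (m : V → ℤ) (N : Finset E) {A B : Finset V}
    (hdisj : Disjoint A B) (hsep : Sep ends A B) :
    exc ends φ m N (A ∪ B) = exc ends φ m N A + exc ends φ m N B := by
  have h1 : Nᶜ ∩ crossing ends (A ∪ B) = (Nᶜ ∩ crossing ends A) ∪ (Nᶜ ∩ crossing ends B) := by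
    rw [← Finset.inter_union_distrib_left]
    congr 1
    ext e
    rw [Finset.mem_union, mem_crossing, mem_crossing, mem_crossing, Finset.mem_union, Finset.mem_union]
    have h3 := hsep e
    have h4 : (ends e).1 ∈ A → (ends e).1 ∉ B := fun h => Finset.disjoint_left.mp hdisj h
    have h5 : (ends e).2 ∈ A → (ends e).2 ∉ B := fun h => Finset.disjoint_left.mp hdisj h
    tauto
  have h2 : Disjoint (Nᶜ ∩ crossing ends A) (Nᶜ ∩ crossing ends B) := by
    rw [Finset.disjoint_left]
    intro e h1 h2
    rw [Finset.mem_inter, mem_crossing] at h1 h2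
    have h3 := hsep e
    have h4 : (ends e).1 ∈ A → (ends e).1 ∉ B := fun h => Finset.disjoint_left.mp hdisj h
    have h5 : (ends e).2 ∈ A → (ends e).2 ∉ B := fun h => Finset.disjoint_left.mp hdisj h
    tauto
  rw [exc_eq, exc_eq, exc_eq, h1, Finset.card_union_of_disjoint h2, Finset.sum_union hdisj]
  push_cast
  ring

lemma sum_psi (ends : E → V × V) (φ : V → ℝ) (m : V → ℤ) (N : Finset E)
    (hdeg : (∑ v : V, φ v) = (totDeg m N : ℝ)) : ∑ v, psi ends φ m N v = 0 := by
  have h2 := congrArg (fun n : ℕ => (n : ℝ)) (sum_endCount ends N Finset.univ)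
  have h3 : N ∩ inner ends Finset.univ = N := by
    rw [Finset.inter_eq_left]
    intro e _
    exact mem_inner.mpr ⟨Finset.mem_univ _, Finset.mem_univ _⟩
  have h4 : N ∩ crossing ends Finset.univ = ∅ := by
    rw [Finset.eq_empty_iff_forall_notMem]
    intro e he
    rw [Finset.mem_inter, mem_crossing] at he
    simp at he
  rw [h3, h4] at h2
  simp only [Nat.cast_sum, Finset.card_empty, add_zero, Nat.cast_mul, Nat.cast_ofNat] at h2
  simp only [psi]
  rw [Finset.sum_sub_distrib, Finset.sum_add_distrib, ← Finset.sum_div, h2, hdeg, totDeg]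
  push_cast
  ring

lemma exc_compl (ends : E → V × V) (φ : V → ℝ) (m : V → ℤ) (N : Finset E)
    (hdeg : (∑ v : V, φ v) = (totDeg m N : ℝ)) (S : Finset V) :
    exc ends φ m N Sᶜ = -∑ v ∈ S, psi ends φ m N v + ((Nᶜ ∩ crossing ends S).card : ℝ) / 2 := by
  rw [exc_eq, crossing_compl]
  have h1 := sum_psi ends φ m N hdeg
  rw [← Finset.sum_add_sum_compl S] at h1
  linarith

lemma exc_compl_union (ends : E → V × V) (φ : V → ℝ) (m : V → ℤ) (N : Finset E)
    (hdeg : (∑ v : V, φ v) = (totDeg m N : ℝ)) {A B : Finset V}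
    (hdisj : Disjoint A B) (hsep : Sep ends A B) :
    exc ends φ m N (A ∪ B)ᶜ = exc ends φ m N Aᶜ + exc ends φ m N Bᶜ := by
  have h := exc_union ends φ m N hdisj hsep
  rw [exc_eq, exc_eq, exc_eq, Finset.sum_union hdisj] at h
  rw [exc_compl _ _ _ _ hdeg, exc_compl _ _ _ _ hdeg, exc_compl _ _ _ _ hdeg,
    Finset.sum_union hdisj]
  linarith

lemma isSemistable_iff (ends : E → V × V) (φ : V → ℝ) (m : V → ℤ) (N : Finset E) :
    IsSemistable ends φ m N ↔ ∀ S : Finset V, S.Nonempty → S ≠ Finset.univ → 0 ≤ exc ends φ m N S := by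
  refine forall_congr' fun S => imp_congr_right fun _ => imp_congr_right fun _ => ?_
  rw [exc]
  constructor <;> intro h <;> linarith

lemma isStable_iff (ends : E → V × V) (φ : V → ℝ) (m : V → ℤ) (N : Finset E) :
    IsStable ends φ m N ↔ ∀ S : Finset V, S.Nonempty → S ≠ Finset.univ → 0 < exc ends φ m N S := by
  refine forall_congr' fun S => imp_congr_right fun _ => imp_congr_right fun _ => ?_
  rw [exc]
  constructor <;> intro h <;> linarith

lemma IsElementary.nonempty {ends : E → V × V} {S : Finset V} (h : IsElementary ends S) :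
    S.Nonempty := ((connected_indEnds_iff ends S).mp h.1).1

lemma IsElementary.ne_univ {ends : E → V × V} {S : Finset V} (h : IsElementary ends S) :
    S ≠ Finset.univ := by
  have := ((connected_indEnds_iff ends _).mp h.2).1
  rintro rfl
  simp at this

theorem semistable_iff_elementary (ends : E → V × V) (hconn : Connected ends)
    (φ : V → ℝ) (m : V → ℤ) (N : Finset E) (hdeg : (∑ v : V, φ v) = (totDeg m N : ℝ)) :
    IsSemistable ends φ m N ↔ ∀ S : Finset V, IsElementary ends S → 0 ≤ exc ends φ m N S := by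
  rw [isSemistable_iff]
  constructor
  · intro h S hS
    exact h S (IsElementary.nonempty hS) (IsElementary.ne_univ hS)
  · intro h
    refine elem_induction hconn (fun S => 0 ≤ exc ends φ m N S) ?_ ?_ h
    · intro A B hd hs hA hB
      rw [exc_union ends φ m N hd hs]
      linarith
    · intro A B hd hs hA hB
      rw [exc_compl_union ends φ m N hdeg hd hs]
      linarith

theorem stable_iff_elementary (ends : E → V × V) (hconn : Connected ends)
    (φ : V → ℝ) (m : V → ℤ) (N : Finset E) (hdeg : (∑ v : V, φ v) = (totDeg m N : ℝ)) :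
    IsStable ends φ m N ↔ ∀ S : Finset V, IsElementary ends S → 0 < exc ends φ m N S := by
  rw [isStable_iff]
  constructor
  · intro h S hS
    exact h S (IsElementary.nonempty hS) (IsElementary.ne_univ hS)
  · intro h
    refine elem_induction hconn (fun S => 0 < exc ends φ m N S) ?_ ?_ h
    · intro A B hd hs hA hB
      rw [exc_union ends φ m N hd hs]
      linarith
    · intro A B hd hs hA hB
      rw [exc_compl_union ends φ m N hdeg hd hs]
      linarith

end General

end K955.Stab
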