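import Groth.Prelude.Def_W4c5modbuncurvesppStab
import Mathlib.Data.ZMod.Basic
import Mathlib.Tactic

/-!
# Elementary combinatorics of forests and trees in the `LabGraph` encoding

* `not_reachable_of_isForest`: an edge of a forest is a bridge.
* `existsUnique_sideSum`: prescribing the sums over the sides of the edges and the total sum of a
  function on the vertices of a tree (values in any abelian group).
-/

set_option autoImplicit false

universe u w

namespace K955.Tree

open LabGraph PhiStab

variable {V E : Type u} [Fintype V] [Fintype E] [DecidableEq V] [DecidableEq E]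

omit [Fintype V] [Fintype E] [DecidableEq V] [DecidableEq E] in
lemma adj_symm {ends : E → V × V} {a b : V} (h : Adj ends a b) : Adj ends b a := by
  obtain ⟨e, he⟩ := h
  exact ⟨e, he.symm⟩

omit [Fintype V] [Fintype E] [DecidableEq V] [DecidableEq E] in
lemma reach_symm {ends : E → V × V} {a b : V} (h : Relation.ReflTransGen (Adj ends) a b) :
    Relation.ReflTransGen (Adj ends) b a := by
  induction h with
  | refl => exact .refl
  | tail _ h ih => exact .head (adj_symm h) ih

omit [Fintype V] [Fintype E] [DecidableEq V] [DecidableEq E] in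
lemma adj_of_edge (ends : E → V × V) (e : E) : Adj ends (ends e).1 (ends e).2 :=
  ⟨e, Or.inl rfl⟩

omit [Fintype V] [Fintype E] [DecidableEq V] [DecidableEq E] in
lemma adj_span_iff {ends : E → V × V} {T : Finset E} {a b : V} :
    Adj (spanEnds ends T) a b ↔ ∃ e ∈ T, ends e = (a, b) ∨ ends e = (b, a) := by
  constructor
  · rintro ⟨⟨e, he⟩, h⟩
    exact ⟨e, he, h⟩
  · rintro ⟨e, he, h⟩
    exact ⟨⟨e, he⟩, h⟩

omit [Fintype V] [Fintype E] [DecidableEq V] [DecidableEq E] in
lemma reach_mono {ends : E → V × V} {T T' : Finset E} (h : T ⊆ T') {a b : V}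
    (hr : Relation.ReflTransGen (Adj (spanEnds ends T)) a b) :
    Relation.ReflTransGen (Adj (spanEnds ends T')) a b := by
  refine Relation.ReflTransGen.mono (fun x y hxy => ?_) _ _ hr
  rw [adj_span_iff] at hxy ⊢
  obtain ⟨e, he, h'⟩ := hxy
  exact ⟨e, h he, h'⟩

/-! ### Parity chains -/

/-- The parity boundary of a `ZMod 2`-chain. -/
def bd (ends : E → V × V) (x : E → ZMod 2) (v : V) : ZMod 2 :=
  ∑ e : E, x e * ((if (ends e).1 = v then 1 else 0) + (if (ends e).2 = v then 1 else 0))

omit [Fintype V] [DecidableEq E] in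
lemma bd_add (ends : E → V × V) (x y : E → ZMod 2) (v : V) :
    bd ends (x + y) v = bd ends x v + bd ends y v := by
  simp only [bd, Pi.add_apply, add_mul, Finset.sum_add_distrib]

omit [Fintype V] in
lemma bd_single (ends : E → V × V) (e : E) (v : V) :
    bd ends (Pi.single e 1) v =
      (if (ends e).1 = v then 1 else 0) + (if (ends e).2 = v then 1 else 0) := by
  rw [bd, Finset.sum_eq_single e]
  · rw [Pi.single_eq_same, one_mul]
  · intro f _ hf
    rw [Pi.single_eq_of_ne hf, zero_mul]
  · intro h; exact absurd (Finset.mem_univ e) h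

omit [Fintype V] in
lemma bd_indicator (ends : E → V × V) (C : Finset E) (v : V) :
    bd ends (fun e => if e ∈ C then 1 else 0) v = (endCount ends C v : ZMod 2) := by
  rw [bd, endCount]
  simp only [ite_mul, one_mul, zero_mul]
  rw [Finset.sum_ite_mem, Finset.univ_inter]
  push_cast
  rfl

omit [Fintype V] in
lemma exists_bd_of_reachable {ends : E → V × V} {A : Finset E} {a c : V}
    (h : Relation.ReflTransGen (Adj (spanEnds ends A)) a c) :
    ∃ x : E → ZMod 2, (∀ e, e ∉ A → x e = 0) ∧
      ∀ v, bd ends x v = (if a = v then 1 else 0) + (if c = v then 1 else 0) := by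
  induction h with
  | refl =>
    refine ⟨0, fun _ _ => rfl, fun v => ?_⟩
    have : bd ends 0 v = 0 := by simp [bd]
    rw [this]
    exact (CharTwo.add_self_eq_zero _).symm
  | tail _ h ih =>
    rename_i b c _
    obtain ⟨x, hx, hbd⟩ := ih
    rw [adj_span_iff] at h
    obtain ⟨e, he, hends⟩ := h
    refine ⟨x + Pi.single e 1, ?_, ?_⟩
    · intro f hf
      have hfe : f ≠ e := fun h => hf (h ▸ he)
      rw [Pi.add_apply, hx f hf, Pi.single_eq_of_ne hfe, add_zero]
    · intro v
      rw [bd_add, hbd, bd_single]
      have h2 := CharTwo.add_self_eq_zero (if b = v then (1 : ZMod 2) else 0)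
      rcases hends with h | h
      · rw [h]
        linear_combination h2
      · rw [h]
        linear_combination h2

omit [Fintype V] [Fintype E] in
/-- A nonempty even set of edges contains a circuit. -/
lemma exists_circuit {ends : E → V × V} (C : Finset E) (hC : C.Nonempty)
    (heven : ∀ v : V, Even (endCount ends C v)) : ∃ C' ⊆ C, IsCircuit ends C' := by
  induction C using Finset.strongInduction with
  | H C ih =>
    by_cases h : ∀ C' : Finset E, C' ⊂ C → C'.Nonempty → ∃ v : V, ¬ Even (endCount ends C' v)
    · exact ⟨C, Finset.Subset.refl _, hC, heven, h⟩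
    · push Not at h
      obtain ⟨C', hss, hne, hev⟩ := h
      obtain ⟨C'', h1, h2⟩ := ih C' hss hne hev
      exact ⟨C'', h1.trans hss.1, h2⟩

/-- An edge of a forest is a bridge. -/
theorem not_reachable_of_isForest {ends : E → V × V} (hF : DualGr.IsForest ends) (e : E) :
    ¬ Relation.ReflTransGen (Adj (spanEnds ends (Finset.univ.erase e))) (ends e).1 (ends e).2 := by
  intro h
  obtain ⟨x, hx, hbd⟩ := exists_bd_of_reachable h
  have hxe : x e = 0 := hx e (by simp)
  let y : E → ZMod 2 := x + Pi.single e 1
  have hy : ∀ v, bd ends y v = 0 := by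
    intro v
    rw [bd_add, hbd, bd_single]
    have h1 := CharTwo.add_self_eq_zero (if (ends e).1 = v then (1 : ZMod 2) else 0)
    have h2 := CharTwo.add_self_eq_zero (if (ends e).2 = v then (1 : ZMod 2) else 0)
    linear_combination h1 + h2
  let C : Finset E := Finset.univ.filter fun f => y f ≠ 0
  have hyC : y = fun f => if f ∈ C then 1 else 0 := by
    funext f
    by_cases hf : y f = 0
    · simp [C, hf]
    · have : y f = 1 := by
        have h3 : ∀ z : ZMod 2, z ≠ 0 → z = 1 := by decide
        exact h3 _ hf
      simp [C, this]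
  have hCne : C.Nonempty := by
    refine ⟨e, ?_⟩
    simp only [C, Finset.mem_filter, Finset.mem_univ, true_and, y, Pi.add_apply, hxe,
      Pi.single_eq_same, zero_add]
    exact one_ne_zero
  obtain ⟨C', _, hC'⟩ := exists_circuit (ends := ends) C hCne (by
    intro v
    have h4 := hy v
    rw [hyC, bd_indicator] at h4
    exact (ZMod.natCast_eq_zero_iff_even).mp h4)
  exact hF C' hC'

/-! ### Sides -/

lemma mem_side_iff {ends : E → V × V} {e : E} {v : V} :
    v ∈ side ends e ↔
      Relation.ReflTransGen (Adj (spanEnds ends (Finset.univ.erase e))) (ends e).1 v := by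
  simp [side]

lemma fst_mem_side (ends : E → V × V) (e : E) : (ends e).1 ∈ side ends e := by
  rw [mem_side_iff]

lemma snd_notMem_side {ends : E → V × V} (hF : DualGr.IsForest ends) (e : E) :
    (ends e).2 ∉ side ends e := by
  rw [mem_side_iff]
  exact not_reachable_of_isForest hF e

lemma mem_side_congr {ends : E → V × V} {e f : E} (hf : f ≠ e) :
    (ends f).1 ∈ side ends e ↔ (ends f).2 ∈ side ends e := by
  have h : Adj (spanEnds ends (Finset.univ.erase e)) (ends f).1 (ends f).2 := by
    rw [adj_span_iff]
    exact ⟨f, by simp [hf], Or.inl rfl⟩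
  rw [mem_side_iff, mem_side_iff]
  exact ⟨fun h' => h'.tail h, fun h' => h'.tail (adj_symm h)⟩

/-! ### Flows -/

section Flow

variable {A : Type w} [AddCommGroup A]

/-- The divergence of a flow. -/
def flow (ends : E → V × V) (γ : E → A) (v : V) : A :=
  ∑ e : E, ((if (ends e).1 = v then γ e else 0) - (if (ends e).2 = v then γ e else 0))

omit [Fintype V] [DecidableEq E] in
lemma sum_flow (ends : E → V × V) (γ : E → A) (S : Finset V) :
    ∑ v ∈ S, flow ends γ v =
      ∑ e : E, ((if (ends e).1 ∈ S then γ e else 0) - (if (ends e).2 ∈ S then γ e else 0)) := by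
  simp only [flow]
  rw [Finset.sum_comm]
  refine Finset.sum_congr rfl fun e _ => ?_
  rw [Finset.sum_sub_distrib, Finset.sum_ite_eq, Finset.sum_ite_eq]

omit [DecidableEq E] in
lemma sum_univ_flow (ends : E → V × V) (γ : E → A) : ∑ v, flow ends γ v = 0 := by
  rw [sum_flow]
  simp

lemma sum_side_flow {ends : E → V × V} (hF : DualGr.IsForest ends) (γ : E → A) (e : E) :
    ∑ v ∈ side ends e, flow ends γ v = γ e := by
  rw [sum_flow, Finset.sum_eq_single e]
  · rw [if_pos (fst_mem_side ends e), if_neg (snd_notMem_side hF e), sub_zero]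
  · intro f _ hf
    by_cases h : (ends f).1 ∈ side ends e
    · rw [if_pos h, if_pos ((mem_side_congr hf).mp h), sub_self]
    · rw [if_neg h, if_neg (fun h' => h ((mem_side_congr hf).mpr h')), sub_self]
  · intro h; exact absurd (Finset.mem_univ e) h

omit [Fintype V] [DecidableEq E] in
lemma flow_add (ends : E → V × V) (γ γ' : E → A) :
    flow ends (γ + γ') = flow ends γ + flow ends γ' := by
  funext v
  simp only [flow, Pi.add_apply, ← Finset.sum_add_distrib]
  refine Finset.sum_congr rfl fun e _ => ?_
  split_ifs <;> abel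

omit [Fintype V] [DecidableEq E] in
lemma flow_zero (ends : E → V × V) : flow ends (0 : E → A) = 0 := by
  funext v
  simp [flow]

omit [Fintype V] in
lemma flow_single (ends : E → V × V) (e : E) (x : A) :
    flow ends (Pi.single e x) = Pi.single (ends e).1 x - Pi.single (ends e).2 x := by
  funext v
  rw [flow, Finset.sum_eq_single e]
  · rw [Pi.single_eq_same, Pi.sub_apply, Pi.single_apply, Pi.single_apply]
    simp only [eq_comm]
  · intro f _ hf
    rw [Pi.single_eq_of_ne hf]
    simp
  · intro h; exact absurd (Finset.mem_univ e) h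

omit [Fintype V] in
lemma exists_flow_of_reachable {ends : E → V × V} {a c : V}
    (h : Relation.ReflTransGen (Adj ends) a c) (x : A) :
    ∃ γ : E → A, flow ends γ = Pi.single a x - Pi.single c x := by
  induction h with
  | refl => exact ⟨0, by rw [flow_zero, sub_self]⟩
  | tail _ h ih =>
    obtain ⟨γ, hγ⟩ := ih
    obtain ⟨e, he | he⟩ := h
    · refine ⟨γ + Pi.single e x, ?_⟩
      rw [flow_add, hγ, flow_single, he]
      abel
    · refine ⟨γ + Pi.single e (-x), ?_⟩
      rw [flow_add, hγ, flow_single, he, Pi.single_neg, Pi.single_neg]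
      abel

/-- On a connected graph every function with sum zero is the divergence of a flow. -/
lemma exists_flow {ends : E → V × V} (hconn : Connected ends) (ψ : V → A) (hψ : ∑ v, ψ v = 0) :
    ∃ γ : E → A, flow ends γ = ψ := by
  obtain ⟨⟨v₀⟩, hreach⟩ := hconn
  choose γ hγ using fun v : V => exists_flow_of_reachable (hreach v v₀) (ψ v)
  have hsum : ∀ s : Finset V, flow ends (∑ v ∈ s, γ v) = ∑ v ∈ s, flow ends (γ v) := by
    intro s
    induction s using Finset.induction_on with
    | empty => simp [flow_zero]
    | insert a s ha ih => rw [Finset.sum_insert ha, Finset.sum_insert ha, flow_add, ih]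
  refine ⟨∑ v, γ v, ?_⟩
  rw [hsum, Finset.sum_congr rfl fun v _ => hγ v, Finset.sum_sub_distrib, Finset.univ_sum_single]
  have h1 : ∑ v, Pi.single v₀ (ψ v) = (Pi.single v₀ (∑ v, ψ v) : V → A) := by
    funext w
    rw [Finset.sum_apply]
    by_cases hw : w = v₀
    · subst hw
      simp
    · simp [Pi.single_eq_of_ne hw]
  rw [h1, hψ, Pi.single_zero, sub_zero]

lemma eq_zero_of_sideSum {ends : E → V × V} (hT : DualGr.IsTree ends) {ψ : V → A}
    (h : ∀ e, ∑ v ∈ side ends e, ψ v = 0) (h0 : ∑ v, ψ v = 0) : ψ = 0 := by
  obtain ⟨γ, rfl⟩ := exists_flow hT.1 ψ h0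
  have : γ = 0 := by
    funext e
    rw [← sum_side_flow hT.2 γ e]
    exact h e
  rw [this, flow_zero]

/-- The flow whose divergence is `ψ` has the side sums of `ψ` as its values. -/
lemma flow_sideSum {ends : E → V × V} (hT : DualGr.IsTree ends) {ψ : V → A}
    (h0 : ∑ v, ψ v = 0) : flow ends (fun e => ∑ v ∈ side ends e, ψ v) = ψ := by
  obtain ⟨γ, rfl⟩ := exists_flow hT.1 ψ h0
  congr 1
  funext e
  exact sum_side_flow hT.2 γ e

/-- On a tree, the sums over the sides of the edges and the total sum can be prescribed, and they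
determine the function. -/
theorem existsUnique_sideSum {ends : E → V × V} (hT : DualGr.IsTree ends) (c : E → A) (c₀ : A) :
    ∃! φ : V → A, (∀ e : E, (∑ v ∈ side ends e, φ v) = c e) ∧ (∑ v : V, φ v) = c₀ := by
  obtain ⟨v₀⟩ := hT.1.1
  refine ⟨Pi.single v₀ c₀ + flow ends fun e => c e - if v₀ ∈ side ends e then c₀ else 0,
    ⟨?_, ?_⟩, ?_⟩
  · intro e
    simp only [Pi.add_apply]
    rw [Finset.sum_add_distrib, sum_side_flow hT.2]
    have : ∑ v ∈ side ends e, (Pi.single v₀ c₀ : V → A) v = if v₀ ∈ side ends e then c₀ else 0 := by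
      simp only [Pi.single_apply]
      rw [Finset.sum_ite_eq']
    rw [this]
    abel
  · simp only [Pi.add_apply]
    rw [Finset.sum_add_distrib, sum_univ_flow, add_zero]
    simp
  · rintro φ ⟨h1, h2⟩
    rw [← sub_eq_zero]
    apply eq_zero_of_sideSum hT
    · intro e
      simp only [Pi.sub_apply, Pi.add_apply]
      rw [Finset.sum_sub_distrib, h1, Finset.sum_add_distrib, sum_side_flow hT.2]
      have : ∑ v ∈ side ends e, (Pi.single v₀ c₀ : V → A) v = if v₀ ∈ side ends e then c₀ else 0 := by
        simp only [Pi.single_apply]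
        rw [Finset.sum_ite_eq']
      rw [this]
      abel
    · simp only [Pi.sub_apply, Pi.add_apply]
      rw [Finset.sum_sub_distrib, h2, Finset.sum_add_distrib, sum_univ_flow, add_zero]
      simp

end Flow

end K955.Tree
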